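import Mathlib

/-!
The Bruhat decomposition of `GL_n` over a field, existence part, by elimination.
-/

set_option autoImplicit false

open scoped Classical MatrixGroups

namespace CfsgLib.Unipotent

open Finset Matrix

variable {F : Type*} [Field F] {n : ℕ}

/-- The permutation matrix sending the `j`th basis vector to the `σ j`th. -/
noncomputable def pmMat (σ : Equiv.Perm (Fin n)) : Matrix (Fin n) (Fin n) F :=
  Matrix.of fun i j => if i = σ j then 1 else 0

theorem pmMat_mul (σ τ : Equiv.Perm (Fin n)) :
    (pmMat σ : Matrix (Fin n) (Fin n) F) * pmMat τ = pmMat (σ * τ) := by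
  ext i k
  simp only [pmMat, Matrix.mul_apply, Matrix.of_apply]
  rw [sum_eq_single (τ k) (fun b _ hb => by rw [if_neg hb, mul_zero]) (by simp), if_pos rfl, mul_one]
  rfl

theorem pmMat_one : (pmMat (1 : Equiv.Perm (Fin n)) : Matrix (Fin n) (Fin n) F) = 1 := by
  ext i k; rcases eq_or_ne i k with rfl | h <;> simp [pmMat, *]

/-- The permutation matrices. -/
noncomputable def pm : Equiv.Perm (Fin n) →* GL (Fin n) F :=
  Units.liftRight
    { toFun := pmMat, map_one' := pmMat_one, map_mul' := fun σ τ => (pmMat_mul σ τ).symm }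
    (fun σ => ⟨pmMat σ, pmMat σ⁻¹, by rw [pmMat_mul, mul_inv_cancel, pmMat_one],
      by rw [pmMat_mul, inv_mul_cancel, pmMat_one]⟩) fun _ => rfl

theorem coe_pm (σ : Equiv.Perm (Fin n)) :
    ((pm σ : GL (Fin n) F) : Matrix (Fin n) (Fin n) F) = pmMat σ := rfl

theorem pm_mulVec (σ : Equiv.Perm (Fin n)) (x : Fin n → F) (i : Fin n) :
    ((pm σ : GL (Fin n) F) : Matrix (Fin n) (Fin n) F).mulVec x i = x (σ.symm i) := by
  rw [coe_pm, Matrix.mulVec, dotProduct,
    sum_eq_single (σ.symm i) (fun b _ hb => ?_) (by simp)]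
  · simp [pmMat]
  · rw [pmMat, Matrix.of_apply, if_neg (fun h => hb (by rw [h, Equiv.symm_apply_apply])), zero_mul]

/-- Upper triangular. -/
def IsUpper (b : GL (Fin n) F) : Prop :=
  ∀ i j : Fin n, j < i → (b : Matrix (Fin n) (Fin n) F) i j = 0

theorem IsUpper.mul {a b : GL (Fin n) F} (ha : IsUpper a) (hb : IsUpper b) : IsUpper (a * b) := by
  intro i j hij
  rw [Units.val_mul, Matrix.mul_apply]
  refine sum_eq_zero fun k _ => ?_
  rcases lt_or_ge k i with h | h
  · rw [ha i k h, zero_mul]
  · rw [hb k j (lt_of_lt_of_le hij h), mul_zero]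

/-- The identity with column `k` replaced by `c`. -/
noncomputable def colMat (k : Fin n) (c : Fin n → F) : Matrix (Fin n) (Fin n) F :=
  Matrix.of fun i j => if j = k then c i else if i = j then 1 else 0

/-- The identity with row `k` replaced by `r`. -/
noncomputable def rowMat (k : Fin n) (r : Fin n → F) : Matrix (Fin n) (Fin n) F :=
  Matrix.of fun i j => if i = k then r j else if i = j then 1 else 0

theorem colMat_mul (k : Fin n) (c : Fin n → F) (A : Matrix (Fin n) (Fin n) F) (i j : Fin n) :
    (colMat k c * A) i j = (if i = k then 0 else A i j) + c i * A k j := by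
  rw [Matrix.mul_apply, ← add_sum_erase _ _ (mem_univ k), add_comm]
  congr 1
  · simp only [colMat, Matrix.of_apply]
    rcases eq_or_ne i k with rfl | hik
    · rw [if_pos rfl]
      refine sum_eq_zero fun b hb => ?_
      rw [if_neg (ne_of_mem_erase hb), if_neg (ne_of_mem_erase hb).symm, zero_mul]
    · rw [if_neg hik, sum_eq_single i (fun b hb hbi => by
        rw [if_neg (ne_of_mem_erase hb), if_neg hbi.symm, zero_mul]) (by simp [hik]),
        if_neg hik, if_pos rfl, one_mul]
  · simp [colMat]

theorem mul_rowMat (k : Fin n) (r : Fin n → F) (A : Matrix (Fin n) (Fin n) F) (i j : Fin n) :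
    (A * rowMat k r) i j = (if j = k then 0 else A i j) + A i k * r j := by
  rw [Matrix.mul_apply, ← add_sum_erase _ _ (mem_univ k), add_comm]
  congr 1
  · simp only [rowMat, Matrix.of_apply]
    rcases eq_or_ne j k with rfl | hik
    · rw [if_pos rfl]
      refine sum_eq_zero fun b hb => ?_
      rw [if_neg (ne_of_mem_erase hb), if_neg (ne_of_mem_erase hb), mul_zero]
    · rw [if_neg hik, sum_eq_single j (fun b hb hbi => by
        rw [if_neg (ne_of_mem_erase hb), if_neg hbi, mul_zero]) (by simp [hik]),
        if_neg hik, if_pos rfl, mul_one]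
  · simp [rowMat]

theorem exists_upper_of_blockTriangular {M : Matrix (Fin n) (Fin n) F} (h : M.BlockTriangular id)
    (hd : ∀ i, M i i ≠ 0) : ∃ b : GL (Fin n) F, (b : Matrix (Fin n) (Fin n) F) = M ∧ IsUpper b := by
  have hdet : M.det ≠ 0 := by
    rw [Matrix.det_of_isUpperTriangular h]; exact prod_ne_zero_iff.2 fun i _ => hd i
  exact ⟨GeneralLinearGroup.mkOfDetNeZero M hdet, rfl, fun i j hij => h hij⟩

/-- Bruhat: every element is `b σ b'` up to inversion of the upper triangular factors. -/
theorem exists_bruhat (g : GL (Fin n) F) :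
    ∃ (b b' : GL (Fin n) F) (σ : Equiv.Perm (Fin n)), IsUpper b ∧ IsUpper b' ∧ b * g * b' = pm σ := by
  suffices H : ∀ k ≤ n, ∃ b b' : GL (Fin n) F, IsUpper b ∧ IsUpper b' ∧
      ∀ j : Fin n, (j : ℕ) < k → ∃ i : Fin n, ∀ a : Fin n,
        ((b * g * b' : GL (Fin n) F) : Matrix (Fin n) (Fin n) F) a j = (if a = i then 1 else 0) ∧
        ((b * g * b' : GL (Fin n) F) : Matrix (Fin n) (Fin n) F) i a = if a = j then 1 else 0 by
    obtain ⟨b, b', hb, hb', hcol⟩ := H n le_rfl
    choose s hs using fun j : Fin n => hcol j j.isLt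
    have hinj : Function.Injective s := fun j j' h => by
      have h1 := (hs j j').2
      rw [h, (hs j' j').2, if_pos rfl] at h1
      by_contra hne
      rw [if_neg (Ne.symm hne)] at h1
      exact one_ne_zero h1
    refine ⟨b, b', Equiv.ofBijective s (Finite.injective_iff_bijective.1 hinj), hb, hb', ?_⟩
    refine Units.ext (Matrix.ext fun i j => ?_)
    rw [(hs j i).1, coe_pm]
    rfl
  intro k hk
  induction k with
  | zero =>
    exact ⟨1, 1, fun i j h => by simp [h.ne'], fun i j h => by simp [h.ne'],
      fun j h => absurd h (Nat.not_lt_zero _)⟩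
  | succ k ih =>
    obtain ⟨b, b', hb, hb', hcol⟩ := ih (by omega)
    set h : GL (Fin n) F := b * g * b' with hh
    let kk : Fin n := ⟨k, hk⟩
    choose! s hs using hcol
    have hdone : ∀ j : Fin n, (j : ℕ) < k → (h : Matrix (Fin n) (Fin n) F) (s j) kk = 0 := by
      intro j hj
      rw [(hs j hj kk).2, if_neg]
      intro e; rw [← e] at hj; exact lt_irrefl k hj
    -- the pivot
    obtain ⟨a, ha⟩ : ∃ a, (h : Matrix (Fin n) (Fin n) F) a kk ≠ 0 := by
      by_contra! hc
      exact (Matrix.isUnits_det_units h).ne_zero (Matrix.det_eq_zero_of_column_eq_zero kk hc)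
    obtain ⟨i0, hi0, hmax⟩ := (univ.filter fun a => (h : Matrix (Fin n) (Fin n) F) a kk ≠ 0).exists_maximal
      ⟨a, by simp [ha]⟩
    have hp : (h : Matrix (Fin n) (Fin n) F) i0 kk ≠ 0 := (mem_filter.1 hi0).2
    have habove : ∀ i, i0 < i → (h : Matrix (Fin n) (Fin n) F) i kk = 0 := by
      intro i hi
      by_contra hne
      exact absurd (hmax (mem_filter.2 ⟨mem_univ i, hne⟩) hi.le) hi.not_ge
    have hrow0 : ∀ j : Fin n, (j : ℕ) < k → (h : Matrix (Fin n) (Fin n) F) i0 j = 0 := by
      intro j hj
      rw [(hs j hj i0).1, if_neg]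
      rintro rfl
      exact hp (hdone j hj)
    set p := (h : Matrix (Fin n) (Fin n) F) i0 kk with hpdef
    let c : Fin n → F := fun i => if i = i0 then p⁻¹ else -((h : Matrix (Fin n) (Fin n) F) i kk * p⁻¹)
    obtain ⟨L, hL, hLu⟩ := exists_upper_of_blockTriangular (M := colMat i0 c) (by
      intro i j hij
      have hij' : j < i := hij
      simp only [colMat, Matrix.of_apply]
      split_ifs with h1 h2
      · simp only [c, if_neg (show i ≠ i0 by subst h1; exact hij'.ne'), habove i (h1 ▸ hij')]
        simp
      · exact absurd h2 hij'.ne'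
      · rfl) (by
      intro i
      simp only [colMat, Matrix.of_apply]
      split_ifs with h1
      · simp [c, h1, hp]
      · exact one_ne_zero)
    set h' : GL (Fin n) F := L * h with hh'
    have h'eq : ∀ i j, (h' : Matrix (Fin n) (Fin n) F) i j = (if i = i0 then 0 else
        (h : Matrix (Fin n) (Fin n) F) i j) + c i * (h : Matrix (Fin n) (Fin n) F) i0 j := by
      intro i j; rw [hh', Units.val_mul, hL, colMat_mul]
    have h'k : ∀ i, (h' : Matrix (Fin n) (Fin n) F) i kk = if i = i0 then 1 else 0 := by
      intro i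
      rw [h'eq]
      rcases eq_or_ne i i0 with rfl | hne
      · simp [c, hp, ← hpdef]
      · simp only [c, if_neg hne, ← hpdef]
        field_simp
        ring
    have h'old : ∀ j : Fin n, (j : ℕ) < k → ∀ i,
        (h' : Matrix (Fin n) (Fin n) F) i j = if i = s j then 1 else 0 := by
      intro j hj i
      rw [h'eq, hrow0 j hj, mul_zero, add_zero, (hs j hj i).1]
      rcases eq_or_ne i i0 with rfl | hne
      · rw [if_pos rfl, if_neg]
        rintro rfl
        exact hp (hdone j hj)
      · rw [if_neg hne]
    let r : Fin n → F := fun j => if j = kk then 1 else -(h' : Matrix (Fin n) (Fin n) F) i0 j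
    obtain ⟨R, hR, hRu⟩ := exists_upper_of_blockTriangular (M := rowMat kk r) (by
      intro i j hij
      have hij' : j < i := hij
      simp only [rowMat, Matrix.of_apply]
      split_ifs with h1 h2
      · subst h1
        simp only [r, if_neg hij'.ne, neg_eq_zero]
        rw [h'old j hij', if_neg]
        rintro e
        exact hp (by rw [hpdef, e]; exact hdone j hij')
      · exact absurd h2 hij'.ne'
      · rfl) (by
      intro i
      simp only [rowMat, Matrix.of_apply]
      split_ifs with h1
      · simp [r, h1]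
      · exact one_ne_zero)
    refine ⟨L * b, b' * R, hLu.mul hb, hb'.mul hRu, fun j hj => ?_⟩
    have e : L * b * g * (b' * R) = h' * R := by rw [hh', hh]; group
    have heq : ∀ i j, ((L * b * g * (b' * R) : GL (Fin n) F) : Matrix (Fin n) (Fin n) F) i j =
        (if j = kk then 0 else (h' : Matrix (Fin n) (Fin n) F) i j) +
          (h' : Matrix (Fin n) (Fin n) F) i kk * r j := by
      intro i j; rw [e, Units.val_mul, hR, mul_rowMat]
    rcases Nat.lt_succ_iff_lt_or_eq.1 hj with hj' | hj'
    · have hjk : j ≠ kk := fun e => by rw [e] at hj'; exact lt_irrefl k hj'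
      have hsj : s j ≠ i0 := fun e => hp (by rw [hpdef, ← e]; exact hdone j hj')
      refine ⟨s j, fun a => ⟨?_, ?_⟩⟩
      · rw [heq, if_neg hjk]
        simp only [r, if_neg hjk, h'old j hj', if_neg hsj.symm, neg_zero, mul_zero, add_zero]
      · rw [heq, h'k, if_neg hsj, zero_mul, add_zero]
        split_ifs with h1 h2 h2
        · exact absurd (h2.symm.trans h1) hjk
        · rfl
        · rw [h'eq, if_neg hsj, (hs j hj' a).2, if_pos h2]
          simp only [c, if_neg hsj, hdone j hj', zero_mul, neg_zero, add_zero]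
        · rw [h'eq, if_neg hsj, (hs j hj' a).2, if_neg h2]
          simp only [c, if_neg hsj, hdone j hj', zero_mul, neg_zero, add_zero]
    · obtain rfl : j = kk := Fin.ext hj'
      refine ⟨i0, fun a => ⟨?_, ?_⟩⟩
      · rw [heq, if_pos rfl, h'k]
        simp [r]
      · rw [heq, h'k, if_pos rfl]
        simp only [r]
        split_ifs with h1 <;> simp

end CfsgLib.Unipotent
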