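import Mathlib

/-!
Cauchy's determinant, and the alternating sum of margin-matrix counts that it evaluates.
-/

set_option autoImplicit false

open scoped Classical

namespace CfsgLib.Unipotent

open Finset Matrix

section Det

variable {n : ℕ}

theorem prod_erase_eq_prod_Ioi {M : Type*} [CommMonoid M] (f : Fin n → Fin n → M) :
    ∏ i, ∏ k ∈ univ.erase i, f i k = ∏ i, ∏ j ∈ Ioi i, f i j * f j i := by
  have h : ∀ i : Fin n, univ.erase i = Ioi i ∪ Iio i := by
    intro i; ext k; simp; omega
  have hd : ∀ i : Fin n, Disjoint (Ioi i) (Iio i) := by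
    intro i; rw [Finset.disjoint_left]; intro k hk hk'; simp at hk hk'; omega
  calc ∏ i, ∏ k ∈ univ.erase i, f i k
      = (∏ i, ∏ k ∈ Ioi i, f i k) * ∏ i, ∏ k ∈ Iio i, f i k := by
        rw [← prod_mul_distrib]
        exact prod_congr rfl fun i _ => by rw [h i, prod_union (hd i)]
    _ = (∏ i, ∏ k ∈ Ioi i, f i k) * ∏ k, ∏ i ∈ Ioi k, f i k := by
        congr 1
        exact prod_comm' (by simp)
    _ = _ := by simp only [← prod_mul_distrib]

theorem det_cauchy_field {K : Type*} [Field K] (x y : Fin n → K) (hy : Function.Injective y)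
    (hy0 : ∀ i, y i ≠ 0) :
    (Matrix.of fun i j : Fin n => ∏ k ∈ univ.erase j, (1 - x i * y k)).det =
      (vandermonde x).det * (vandermonde y).det := by
  let P : Fin n → Polynomial K := fun j => ∏ k ∈ univ.erase j, (1 - Polynomial.X * Polynomial.C (y k))
  let C : Matrix (Fin n) (Fin n) K := Matrix.of fun m j => (P j).coeff m
  have hdeg : ∀ j, (P j).natDegree < n := by
    intro j
    have h : (P j).natDegree ≤ n - 1 := by
      refine le_trans (Polynomial.natDegree_prod_le _ _) ?_
      refine le_trans (sum_le_card_nsmul _ _ 1 fun k _ => ?_) (by simp)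
      compute_degree
    have := j.isLt
    omega
  have hL : ∀ w : Fin n → K,
      (Matrix.of fun i j : Fin n => ∏ k ∈ univ.erase j, (1 - w i * y k)) = vandermonde w * C := by
    intro w
    ext i j
    rw [Matrix.of_apply, Matrix.mul_apply]
    have h1 := Polynomial.eval_eq_sum_range' (hdeg j) (w i)
    rw [← Fin.sum_univ_eq_sum_range (fun m => (P j).coeff m * w i ^ m)] at h1
    simp only [P, Polynomial.eval_prod, Polynomial.eval_sub, Polynomial.eval_one, Polynomial.eval_mul,
      Polynomial.eval_X, Polynomial.eval_C] at h1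
    rw [h1]
    exact sum_congr rfl fun m _ => by rw [vandermonde_apply, mul_comm]; rfl
  let z : Fin n → K := fun i => (y i)⁻¹
  have hz : Function.Injective z := inv_injective.comp hy
  have hdiag : (Matrix.of fun i j : Fin n => ∏ k ∈ univ.erase j, (1 - z i * y k)) =
      Matrix.diagonal fun i => ∏ k ∈ univ.erase i, (1 - z i * y k) := by
    ext i j
    rcases eq_or_ne i j with rfl | h
    · simp
    · rw [Matrix.of_apply, Matrix.diagonal_apply_ne _ h]
      refine prod_eq_zero (mem_erase.2 ⟨h, mem_univ i⟩) ?_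
      simp [z, hy0 i]
  have hzy : (vandermonde z).det * C.det = (vandermonde z).det * (vandermonde y).det := by
    rw [← det_mul, ← hL, hdiag, det_diagonal, prod_erase_eq_prod_Ioi, det_vandermonde,
      det_vandermonde, ← prod_mul_distrib]
    refine prod_congr rfl fun i _ => ?_
    rw [← prod_mul_distrib]
    refine prod_congr rfl fun j _ => ?_
    have hi := hy0 i
    have hj := hy0 j
    simp only [z]
    field_simp
  have hne : (vandermonde z).det ≠ 0 := det_vandermonde_ne_zero_iff.2 hz
  rw [hL x, det_mul, mul_left_cancel₀ hne hzy]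

theorem det_cauchy {R : Type*} [CommRing R] [IsDomain R] (x y : Fin n → R)
    (hy : Function.Injective y) (hy0 : ∀ i, y i ≠ 0) :
    (Matrix.of fun i j : Fin n => ∏ k ∈ univ.erase j, (1 - x i * y k)).det =
      (vandermonde x).det * (vandermonde y).det := by
  let φ := algebraMap R (FractionRing R)
  have hφ : Function.Injective φ := IsFractionRing.injective R (FractionRing R)
  apply hφ
  have h := det_cauchy_field (φ ∘ x) (φ ∘ y) (hφ.comp hy) fun i => (map_ne_zero_iff φ hφ).2 (hy0 i)
  have e1 : φ.mapMatrix (Matrix.of fun i j : Fin n => ∏ k ∈ univ.erase j, (1 - x i * y k)) =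
      Matrix.of fun i j : Fin n => ∏ k ∈ univ.erase j, (1 - (φ ∘ x) i * (φ ∘ y) k) := by
    ext i j; simp [map_prod]
  have e2 : ∀ w : Fin n → R, φ.mapMatrix (vandermonde w) = vandermonde (φ ∘ w) := by
    intro w; ext i j; simp [vandermonde_apply]
  rw [map_mul, RingHom.map_det, RingHom.map_det, RingHom.map_det, e1, e2, e2]
  exact h

end Det

section Geometric

open MvPowerSeries

variable {σ : Type*}

/-- The series `∑_k x^(k e)`. -/
noncomputable def geo (e : σ →₀ ℕ) : MvPowerSeries σ ℤ :=
  fun d => if ∃ k : ℕ, d = k • e then 1 else 0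

theorem coeff_geo (e d : σ →₀ ℕ) : coeff d (geo e) = if ∃ k : ℕ, d = k • e then 1 else 0 := rfl

theorem nsmul_injective_of_ne_zero {e : σ →₀ ℕ} (he : e ≠ 0) :
    Function.Injective fun k : ℕ => k • e := by
  intro k k' h
  obtain ⟨s, hs⟩ := Finsupp.ne_iff.1 he
  have := DFunLike.congr_fun h s
  simp only [Finsupp.coe_smul, Pi.smul_apply, smul_eq_mul, Finsupp.coe_zero, Pi.zero_apply] at this hs
  exact Nat.eq_of_mul_eq_mul_right (Nat.pos_of_ne_zero hs) this

theorem one_sub_mul_geo {e : σ →₀ ℕ} (he : e ≠ 0) : (1 - monomial e (1 : ℤ)) * geo e = 1 := by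
  ext d
  rw [sub_mul, one_mul, map_sub, coeff_monomial_mul, coeff_geo, coeff_one, one_mul]
  by_cases hd : ∃ k : ℕ, d = k • e
  · obtain ⟨k, rfl⟩ := hd
    rw [if_pos ⟨k, rfl⟩]
    rcases k with _ | k
    · rw [if_neg (by
        intro h
        exact he (le_zero_iff.mp (by simpa using h))), if_pos (zero_smul ℕ e)]
      simp
    · rw [if_pos (by rw [add_smul, one_smul]; exact le_add_left le_rfl), coeff_geo,
        if_pos ⟨k, by rw [add_smul, one_smul, add_tsub_cancel_right]⟩, if_neg]
      · simp
      · intro h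
        have := nsmul_injective_of_ne_zero he (a₁ := k + 1) (a₂ := 0) (by simpa using h)
        simp at this
  · rw [if_neg hd]
    have hd0 : d ≠ 0 := fun h => hd ⟨0, by rw [h, zero_smul]⟩
    rw [if_neg hd0]
    split_ifs with hle
    · rw [coeff_geo, if_neg]
      · simp
      · rintro ⟨k, hk⟩
        exact hd ⟨k + 1, by rw [add_smul, one_smul, ← hk, tsub_add_cancel_of_le hle]⟩
    · simp

theorem coeff_prod_geo {ι : Type*} [Fintype ι] (e : ι → σ →₀ ℕ) (he : ∀ a, e a ≠ 0) (d : σ →₀ ℕ) :
    coeff d (∏ a, geo (e a)) = (Nat.card {A : ι → ℕ // ∑ a, A a • e a = d} : ℤ) := by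
  rw [coeff_prod]
  simp_rw [coeff_geo, prod_boole, Finset.mem_univ, forall_const]
  rw [sum_boole, ← Nat.card_eq_finsetCard]
  congr 1
  refine Nat.card_congr (Equiv.ofBijective
    (fun l => ⟨fun a => Classical.choose ((mem_filter.1 l.2).2 a), ?_⟩) ⟨?_, ?_⟩)
  · have hl := (mem_finsuppAntidiag.1 (mem_filter.1 l.2).1).1
    refine Eq.trans ?_ hl
    exact sum_congr rfl fun a _ => (Classical.choose_spec ((mem_filter.1 l.2).2 a)).symm
  · intro l l' h
    refine Subtype.ext (Finsupp.ext fun a => ?_)
    rw [Classical.choose_spec ((mem_filter.1 l.2).2 a), Classical.choose_spec ((mem_filter.1 l'.2).2 a)]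
    exact congrArg (· • e a) (congrFun (congrArg Subtype.val h) a)
  · rintro ⟨A, hA⟩
    have hm : Finsupp.equivFunOnFinite.symm (fun a => A a • e a) ∈
        (Finset.finsuppAntidiag univ d).filter (fun l => ∀ a, ∃ k : ℕ, l a = k • e a) := by
      rw [mem_filter, mem_finsuppAntidiag]
      exact ⟨⟨by simpa using hA, subset_univ _⟩, fun a => ⟨A a, by simp⟩⟩
    refine ⟨⟨_, hm⟩, Subtype.ext (funext fun a => ?_)⟩
    exact nsmul_injective_of_ne_zero (he a)
      ((Classical.choose_spec ((mem_filter.1 hm).2 a)).symm.trans (by simp))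

end Geometric

section Identity

open MvPowerSeries

variable {n : ℕ}

/-- Matrices of natural numbers with prescribed row and column sums. -/
abbrev Margins (r c : Fin n → ℕ) : Type :=
  {A : Fin n → Fin n → ℕ // (∀ a, ∑ b, A a b = r a) ∧ ∀ b, ∑ a, A a b = c b}

/-- The exponent vector `(r, c)`. -/
noncomputable def expo (r c : Fin n → ℕ) : Fin n ⊕ Fin n →₀ ℕ :=
  Finsupp.equivFunOnFinite.symm (Sum.elim r c)

theorem expo_apply_inl (r c : Fin n → ℕ) (a : Fin n) : expo r c (Sum.inl a) = r a := by
  simp [expo]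

theorem expo_apply_inr (r c : Fin n → ℕ) (a : Fin n) : expo r c (Sum.inr a) = c a := by
  simp [expo]

/-- The exponent of `x_a y_b`. -/
noncomputable def pairExpo (p : Fin n × Fin n) : Fin n ⊕ Fin n →₀ ℕ :=
  Finsupp.single (Sum.inl p.1) 1 + Finsupp.single (Sum.inr p.2) 1

theorem pairExpo_ne_zero (p : Fin n × Fin n) : pairExpo p ≠ 0 := fun h => by
  have := DFunLike.congr_fun h (Sum.inl p.1)
  simp [pairExpo] at this

/-- Cauchy's identity in coefficients: the alternating sum of margin counts is a Kronecker delta. -/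
theorem sum_sum_margins (l m : Fin n → ℕ) (hl : StrictMono l) (hm : StrictMono m) :
    (∑ κ : Equiv.Perm (Fin n), ∑ τ : Equiv.Perm (Fin n),
      if (∀ i, (κ i).val ≤ l i) ∧ (∀ i, (τ i).val ≤ m i) then
        ((Equiv.Perm.sign κ : ℤ) * (Equiv.Perm.sign τ : ℤ)) *
          (Nat.card (Margins (fun i => l i - (κ i).val) (fun i => m i - (τ i).val)) : ℤ)
      else 0) = if l = m then 1 else 0 := by
  let x : Fin n → MvPowerSeries (Fin n ⊕ Fin n) ℤ := fun i => MvPowerSeries.X (Sum.inl i)
  let y : Fin n → MvPowerSeries (Fin n ⊕ Fin n) ℤ := fun i => MvPowerSeries.X (Sum.inr i)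
  let G : Fin n → Fin n → MvPowerSeries (Fin n ⊕ Fin n) ℤ := fun i j => geo (pairExpo (i, j))
  have hxy : ∀ i j, x i * y j = monomial (pairExpo (i, j)) (1 : ℤ) := by
    intro i j
    simp only [x, y, MvPowerSeries.X_def, monomial_mul_monomial, one_mul, pairExpo]
  have hG : ∀ i j, (1 - x i * y j) * G i j = 1 := fun i j => by
    rw [hxy]; exact one_sub_mul_geo (pairExpo_ne_zero _)
  have hy : Function.Injective y := fun i j h => by
    by_contra hne
    have h2 := congrArg (coeff (Finsupp.single (Sum.inr i) 1)) h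
    simp only [y, MvPowerSeries.coeff_X] at h2
    rw [if_pos trivial, if_neg] at h2
    · exact one_ne_zero h2
    · intro h3
      exact hne (Sum.inr.inj (Finsupp.single_left_injective one_ne_zero h3))
  have hy0 : ∀ i, y i ≠ 0 := fun i h => by
    have h2 := congrArg (coeff (Finsupp.single (Sum.inr i) 1)) h
    simp [y, MvPowerSeries.coeff_X] at h2
  haveI : IsDomain (MvPowerSeries (Fin n ⊕ Fin n) ℤ) := NoZeroDivisors.to_isDomain _
  have hdet : (vandermonde x).det * (vandermonde y).det * ∏ p : Fin n × Fin n, G p.1 p.2 =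
      (Matrix.of G).det := by
    rw [← det_cauchy x y hy hy0, Fintype.prod_prod_type, mul_comm, ← Matrix.det_mul_column]
    congr 1
    ext i j : 2
    rw [Matrix.of_apply, Matrix.of_apply, Matrix.of_apply,
      ← mul_prod_erase univ (G i) (mem_univ j), mul_assoc, ← prod_mul_distrib,
      prod_eq_one fun k _ => by rw [mul_comm, hG], mul_one]
  have hV : ∀ (w : Fin n → Fin n ⊕ Fin n), (vandermonde fun i => (MvPowerSeries.X (w i) :
      MvPowerSeries (Fin n ⊕ Fin n) ℤ)).det = ∑ κ : Equiv.Perm (Fin n),
        monomial (∑ i, Finsupp.single (w i) (κ i).val) (Equiv.Perm.sign κ : ℤ) := by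
    intro w
    rw [← Matrix.det_transpose, Matrix.det_apply']
    refine sum_congr rfl fun κ _ => ?_
    simp only [Matrix.transpose_apply, vandermonde_apply, MvPowerSeries.X_pow_eq]
    have h1 : ∀ s : Finset (Fin n), ∏ i ∈ s, monomial (Finsupp.single (w i) (κ i).val) (1 : ℤ) =
        monomial (∑ i ∈ s, Finsupp.single (w i) (κ i).val) (1 : ℤ) := by
      intro s
      induction s using Finset.induction_on with
      | empty => simp
      | insert a s ha ih => rw [prod_insert ha, sum_insert ha, ih, monomial_mul_monomial, one_mul]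
    rw [h1, ← zsmul_eq_mul, ← map_zsmul, smul_eq_mul, mul_one]
  have hexp : ∀ κ τ : Equiv.Perm (Fin n),
      (∑ i, Finsupp.single (Sum.inl i : Fin n ⊕ Fin n) (κ i).val) +
        ∑ i, Finsupp.single (Sum.inr i : Fin n ⊕ Fin n) (τ i).val =
      expo (fun i => (κ i).val) (fun i => (τ i).val) := by
    intro κ τ
    ext s
    rcases s with a | a <;> simp [expo, Finsupp.single_apply]
  have hmar : ∀ r c : Fin n → ℕ, coeff (expo r c) (∏ p : Fin n × Fin n, G p.1 p.2) =
      (Nat.card (Margins r c) : ℤ) := by
    intro r c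
    refine (coeff_prod_geo pairExpo pairExpo_ne_zero _).trans ?_
    congr 1
    refine Nat.card_congr (((Equiv.curry _ _ _).subtypeEquiv fun A => ?_))
    rw [DFunLike.ext_iff, Sum.forall]
    simp [pairExpo, expo, Fintype.sum_prod_type, Finsupp.single_apply, Finset.sum_add_distrib,
      Function.curry]
  have hL := congrArg (coeff (expo l m)) hdet
  rw [hV, hV, Finset.sum_mul_sum, Finset.sum_mul, map_sum] at hL
  have hrhs : coeff (expo l m) (Matrix.of G).det = if l = m then 1 else 0 := by
    rw [Matrix.det_apply', map_sum]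
    have hs : ∀ σ : Equiv.Perm (Fin n),
        coeff (expo l m) (((Equiv.Perm.sign σ : ℤ) : MvPowerSeries (Fin n ⊕ Fin n) ℤ) *
          ∏ i, Matrix.of G (σ i) i) =
        if σ = 1 ∧ l = m then 1 else 0 := by
      intro σ
      rw [← zsmul_eq_mul, map_zsmul, smul_eq_mul]
      simp only [Matrix.of_apply, G]
      rw [coeff_prod_geo (fun i => pairExpo (σ i, i)) (fun i => pairExpo_ne_zero _)]
      have hiff : ∀ A : Fin n → ℕ, ∑ i, A i • pairExpo (σ i, i) = expo l m ↔
          A = m ∧ l ∘ σ = m := by
        intro A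
        have h1 : ∀ a, (∑ i, A i • pairExpo (σ i, i)) (Sum.inl a) = A (σ.symm a) := by
          intro a
          simp only [pairExpo, Finsupp.coe_finsetSum, Finset.sum_apply, Finsupp.coe_smul,
            Pi.smul_apply, Finsupp.coe_add, Pi.add_apply, Finsupp.single_apply, Sum.inl.injEq,
            reduceCtorEq, if_false, add_zero, smul_eq_mul, mul_ite, mul_one, mul_zero]
          rw [Finset.sum_eq_single (σ.symm a)] <;> simp +contextual [Equiv.eq_symm_apply]
        have h2 : ∀ a, (∑ i, A i • pairExpo (σ i, i)) (Sum.inr a) = A a := by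
          intro a
          simp only [pairExpo, Finsupp.coe_finsetSum, Finset.sum_apply, Finsupp.coe_smul,
            Pi.smul_apply, Finsupp.coe_add, Pi.add_apply, Finsupp.single_apply, Sum.inr.injEq,
            reduceCtorEq, if_false, zero_add, smul_eq_mul, mul_ite, mul_one, mul_zero]
          rw [Finset.sum_eq_single a] <;> simp +contextual
        rw [DFunLike.ext_iff, Sum.forall]
        simp only [h1, h2, expo_apply_inl, expo_apply_inr]
        constructor
        · rintro ⟨ha, hb⟩
          obtain rfl : A = m := funext hb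
          exact ⟨rfl, funext fun i => by rw [Function.comp_apply, ← ha, Equiv.symm_apply_apply]⟩
        · rintro ⟨rfl, h⟩
          exact ⟨fun a => by rw [← congrFun h (σ.symm a), Function.comp_apply,
            Equiv.apply_symm_apply], fun b => rfl⟩
      rw [Nat.card_congr (Equiv.subtypeEquivRight hiff)]
      by_cases hc : l ∘ σ = m
      · have hσ : σ = 1 := by
          have hsm : StrictMono σ := fun i j hij => by
            have := hm hij
            rw [← hc] at this
            exact hl.lt_iff_lt.1 this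
          exact Equiv.ext (congrFun ((hsm.range_inj strictMono_id).1
            (by simp [σ.surjective.range_eq])))
        subst hσ
        rw [if_pos ⟨rfl, by simpa using hc⟩]
        haveI : Unique {A : Fin n → ℕ // A = m ∧ l ∘ (1 : Equiv.Perm (Fin n)) = m} :=
          ⟨⟨⟨m, rfl, hc⟩⟩, fun A => Subtype.ext A.2.1⟩
        rw [Nat.card_unique]
        simp
      · haveI : IsEmpty {A : Fin n → ℕ // A = m ∧ l ∘ σ = m} := ⟨fun A => hc A.2.2⟩
        rw [if_neg (by rintro ⟨rfl, rfl⟩; exact hc rfl)]
        simp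
    rw [sum_congr rfl fun σ _ => hs σ]
    by_cases h : l = m
    · simp [h]
    · simp [h]
  rw [hrhs] at hL
  rw [← hL]
  refine sum_congr rfl fun κ _ => ?_
  rw [Finset.sum_mul, map_sum]
  refine sum_congr rfl fun τ _ => ?_
  rw [monomial_mul_monomial, coeff_monomial_mul, hexp]
  have hle : expo (fun i => (κ i).val) (fun i => (τ i).val) ≤ expo l m ↔
      (∀ i, (κ i).val ≤ l i) ∧ ∀ i, (τ i).val ≤ m i := by
    rw [Finsupp.le_def, Sum.forall]
    simp [expo]
  have hsub : expo l m - expo (fun i => (κ i).val) (fun i => (τ i).val) =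
      expo (fun i => l i - (κ i).val) fun i => m i - (τ i).val := by
    ext s
    rcases s with a | a <;> simp [expo]
  by_cases hc : (∀ i, (κ i).val ≤ l i) ∧ ∀ i, (τ i).val ≤ m i
  · rw [if_pos hc, if_pos (hle.2 hc), hsub, hmar]
  · rw [if_neg hc, if_neg (fun h => hc (hle.1 h))]

end Identity

end CfsgLib.Unipotent
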