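import Cfsg.Agent.Eq.Def_LinearParabolics
import Cfsg.Agent.Eq.Def_Characters
import Cfsg.Agent.Classical.Linear.ParabolicCard
import Cfsg.Agent.Unipotent.Bruhat
import Cfsg.Agent.Unipotent.Cauchy

/-!
Double cosets of parabolic subgroups of `GL_n(q)` and of Young subgroups of `Sym(n)` are both
parametrised by matrices with prescribed margins.
-/

set_option autoImplicit false

open scoped Classical MatrixGroups ComplexConjugate

namespace CfsgLib.Unipotent

open Finset Cfsg

universe u

section Orbits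

variable {G : Type u} [Group G] [Fintype G]

theorem sum_fixedPointCharacter_mul (H K : Subgroup G) :
    ∑ g : G, fixedPointCharacter H g * fixedPointCharacter K g =
      (Nat.card (Quotient (MulAction.orbitRel G ((G ⧸ H) × (G ⧸ K)))) : ℂ) * Nat.card G := by
  have h := MulAction.sum_card_fixedBy_eq_card_orbits_mul_card_group G ((G ⧸ H) × (G ⧸ K))
  rw [← Nat.card_eq_fintype_card, ← Nat.card_eq_fintype_card] at h
  rw [← Nat.cast_mul, ← h, Nat.cast_sum]
  refine sum_congr rfl fun g _ => ?_
  rw [fixedPointCharacter, fixedPointCharacter, ← Nat.cast_mul, ← Nat.card_prod,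
    ← Nat.card_eq_fintype_card]
  congr 1
  exact Nat.card_congr
    { toFun := fun p => ⟨(p.1.1, p.2.1), Prod.ext p.1.2 p.2.2⟩
      invFun := fun p => (⟨p.1.1, congrArg Prod.fst p.2⟩, ⟨p.1.2, congrArg Prod.snd p.2⟩)
      left_inv := fun _ => rfl
      right_inv := fun _ => rfl }

theorem card_orbits_eq (H K : Subgroup G) {S X : Type*} (f : S → G) (c : S → X)
    (hc : Function.Surjective c) (hf : ∀ g : G, ∃ s, ∃ h ∈ H, ∃ k ∈ K, g = h * f s * k)
    (hiff : ∀ s s', c s = c s' ↔ ∃ h ∈ H, ∃ k ∈ K, f s' = h * f s * k) :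
    Nat.card (Quotient (MulAction.orbitRel G ((G ⧸ H) × (G ⧸ K)))) = Nat.card X := by
  let m : S → Quotient (MulAction.orbitRel G ((G ⧸ H) × (G ⧸ K))) :=
    fun s => Quotient.mk'' (((1 : G) : G ⧸ H), (f s : G ⧸ K))
  have hm : ∀ s s', m s = m s' ↔ c s = c s' := by
    intro s s'
    rw [hiff]
    constructor
    · intro h
      obtain ⟨g, hg⟩ := MulAction.orbitRel_apply.1 (Quotient.eq''.1 h.symm)
      have h1 : ((g * 1 : G) : G ⧸ H) = ((1 : G) : G ⧸ H) := congrArg Prod.fst hg
      have h2 : ((g * f s : G) : G ⧸ K) = (f s' : G ⧸ K) := congrArg Prod.snd hg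
      rw [mul_one, QuotientGroup.eq, mul_one, inv_mem_iff] at h1
      rw [QuotientGroup.eq] at h2
      exact ⟨g, h1, _, h2, by group⟩
    · rintro ⟨h, hh, k, hk, e⟩
      refine Eq.symm (Quotient.eq''.2 (MulAction.orbitRel_apply.2 ⟨h, Prod.ext ?_ ?_⟩))
      · show ((h * 1 : G) : G ⧸ H) = ((1 : G) : G ⧸ H)
        rw [QuotientGroup.eq]; simpa using hh
      · show ((h * f s : G) : G ⧸ K) = (f s' : G ⧸ K)
        rw [QuotientGroup.eq, e]; simpa [mul_assoc] using hk
  have hsurj : Function.Surjective m := by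
    intro q
    induction q using Quotient.inductionOn' with
    | h p =>
      obtain ⟨⟨a⟩, ⟨b⟩⟩ := p
      obtain ⟨s, h, hh, k, hk, e⟩ := hf (a⁻¹ * b)
      refine ⟨s, Quotient.eq''.2 ⟨h⁻¹ * a⁻¹, Prod.ext ?_ ?_⟩⟩
      · show ((h⁻¹ * a⁻¹ * a : G) : G ⧸ H) = ((1 : G) : G ⧸ H)
        rw [QuotientGroup.eq]; simpa [mul_assoc] using hh
      · show ((h⁻¹ * a⁻¹ * b : G) : G ⧸ K) = (f s : G ⧸ K)
        rw [QuotientGroup.eq, mul_assoc h⁻¹, e]
        simpa [mul_assoc] using hk
  refine Nat.card_congr (Equiv.ofBijective (fun q => c (Function.surjInv hsurj q)) ⟨?_, ?_⟩)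
  · intro q q' h
    have := (hm _ _).2 h
    rwa [Function.surjInv_eq hsurj, Function.surjInv_eq hsurj] at this
  · intro x
    obtain ⟨s, rfl⟩ := hc x
    exact ⟨m s, (hm _ _).1 (Function.surjInv_eq hsurj (m s))⟩

end Orbits

section Comb

variable {α β : Type*} [Finite α]

theorem exists_perm_comp {f g : α → β}
    (h : ∀ b, Nat.card {a // f a = b} = Nat.card {a // g a = b}) :
    ∃ e : Equiv.Perm α, ∀ a, g (e a) = f a :=
  ⟨Equiv.ofFiberEquiv (f := f) (g := g) fun b => Classical.choice
      (Finite.card_eq.1 (h b) |> fun e => ⟨e.some⟩),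
    fun a => Equiv.ofFiberEquiv_map _ a⟩

end Comb

section Labels

variable {n : ℕ} {ν μ : Fin n → ℕ} (hν : ∑ i, ν i = n) (hμ : ∑ i, μ i = n)

/-- The block label, as an element of `Fin n`. -/
def lab (i : Fin n) : Fin n := ⟨compLabel μ i, CfsgLib.Classical.Linear.compLabel_lt μ hμ i⟩

theorem card_lab (a : Fin n) : Nat.card {i : Fin n // lab hμ i = a} = μ a := by
  rw [Nat.card_eq_fintype_card]
  exact (Fintype.card_congr (Equiv.refl _)).trans
    (CfsgLib.Classical.Linear.card_fiber_compLabel μ hμ a)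

theorem mem_young {σ : Equiv.Perm (Fin n)} :
    σ ∈ youngSubgroup μ ↔ ∀ i, lab hμ (σ i) = lab hμ i :=
  forall_congr' fun _ => ⟨fun h => Fin.ext h, fun h => congrArg Fin.val h⟩

/-- The margin matrix of a permutation. -/
noncomputable def margin (σ : Equiv.Perm (Fin n)) : Margins ν μ :=
  ⟨fun a b => Nat.card {j : Fin n // (lab hν (σ j), lab hμ j) = (a, b)}, fun a => by
    refine Eq.trans ?_ ((Nat.card_congr (σ.subtypeEquiv (p := fun j => lab hν (σ j) = a)
      (q := fun i => lab hν i = a) fun j => Iff.rfl)).trans (card_lab hν a))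
    rw [← Nat.card_sigma]
    exact Nat.card_congr
      { toFun := fun x => ⟨x.2.1, congrArg Prod.fst x.2.2⟩
        invFun := fun j => ⟨lab hμ j.1, j.1, Prod.ext j.2 rfl⟩
        left_inv := fun x => by
          obtain ⟨b, j, hj⟩ := x
          obtain rfl : lab hμ j = b := congrArg Prod.snd hj
          rfl
        right_inv := fun _ => rfl }, fun b => by
    refine Eq.trans ?_ (card_lab hμ b)
    rw [← Nat.card_sigma]
    exact Nat.card_congr
      { toFun := fun x => ⟨x.2.1, congrArg Prod.snd x.2.2⟩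
        invFun := fun j => ⟨lab hν (σ j.1), j.1, Prod.ext rfl j.2⟩
        left_inv := fun x => by
          obtain ⟨a, j, hj⟩ := x
          obtain rfl : lab hν (σ j) = a := congrArg Prod.fst hj
          rfl
        right_inv := fun _ => rfl }⟩

theorem margin_surjective : Function.Surjective (margin hν hμ) := by
  rintro ⟨A, hr, hc⟩
  have hcard : Fintype.card ((p : Fin n × Fin n) × Fin (A p.1 p.2)) = Fintype.card (Fin n) := by
    simp [Fintype.card_sigma, Fintype.sum_prod_type, hr, hν]
  let e := Fintype.equivOfCardEq hcard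
  let f : Fin n → Fin n × Fin n := fun j => (e.symm j).1
  have hfib : ∀ p, Nat.card {j // f j = p} = A p.1 p.2 := by
    intro p
    rw [Nat.card_congr ((e.symm.subtypeEquiv (p := fun j => f j = p) (q := fun x => x.1 = p)
      fun j => Iff.rfl).trans (Equiv.sigmaSubtype p)), Nat.card_fin]
  obtain ⟨τ, hτ⟩ := exists_perm_comp (f := fun j => lab hμ j) (g := fun j => (f j).2) fun b => by
    rw [card_lab, ← hc b, ← Nat.card_congr ((Equiv.sigmaFiberEquiv fun x : {j // (f j).2 = b} => (f x.1).1)),
      Nat.card_sigma]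
    refine sum_congr rfl fun a _ => ((hfib (a, b)).symm.trans (Nat.card_congr ?_))
    exact ((Equiv.subtypeSubtypeEquivSubtypeInter (fun j => (f j).2 = b) fun j => (f j).1 = a).trans
      (Equiv.subtypeEquivRight fun j => by rw [Prod.ext_iff]; exact and_comm)).symm
  obtain ⟨σ, hσ⟩ := exists_perm_comp (f := fun j => (f (τ j)).1) (g := fun i => lab hν i) fun a => by
    rw [card_lab, ← hr a]
    rw [Nat.card_congr (τ.subtypeEquiv (p := fun j => (f (τ j)).1 = a) (q := fun j => (f j).1 = a)
        fun j => Iff.rfl), ← Nat.card_congr ((Equiv.sigmaFiberEquiv fun x : {j // (f j).1 = a} => (f x.1).2)),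
      Nat.card_sigma]
    refine sum_congr rfl fun b _ => Eq.trans (Nat.card_congr ?_) (hfib (a, b))
    exact (Equiv.subtypeSubtypeEquivSubtypeInter (fun j => (f j).1 = a) fun j => (f j).2 = b).trans
      (Equiv.subtypeEquivRight fun j => by rw [Prod.ext_iff])
  refine ⟨σ, Subtype.ext (funext fun a => funext fun b => ?_)⟩
  show Nat.card {j // (lab hν (σ j), lab hμ j) = (a, b)} = A a b
  rw [← hfib (a, b)]
  refine Nat.card_congr (τ.subtypeEquiv fun j => ?_)
  rw [hσ j, ← hτ j]

theorem exists_of_margin_eq {σ σ' : Equiv.Perm (Fin n)} (h : margin hν hμ σ = margin hν hμ σ') :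
    ∃ y ∈ youngSubgroup ν, ∃ z ∈ youngSubgroup μ, σ' = y * σ * z := by
  obtain ⟨e, he⟩ := exists_perm_comp (f := fun j => (lab hν (σ j), lab hμ j))
    (g := fun j => (lab hν (σ' j), lab hμ j)) fun p =>
    congrFun (congrFun (congrArg Subtype.val h) p.1) p.2
  refine ⟨σ' * e * σ⁻¹, (mem_young hν).2 fun i => ?_, e⁻¹, inv_mem ((mem_young hμ).2 fun i => ?_), ?_⟩
  · have := congrArg Prod.fst (he (σ⁻¹ i))
    simpa using this
  · exact congrArg Prod.snd (he i)
  · group

theorem margin_mul {σ y z : Equiv.Perm (Fin n)} (hy : y ∈ youngSubgroup ν)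
    (hz : z ∈ youngSubgroup μ) : margin hν hμ (y * σ * z) = margin hν hμ σ := by
  refine Subtype.ext (funext fun a => funext fun b => Nat.card_congr (z.subtypeEquiv fun j => ?_))
  simp only [Equiv.Perm.coe_mul, Function.comp_apply]
  rw [(mem_young hν).1 hy, (mem_young hμ).1 hz]

include hν hμ in
theorem card_orbits_young :
    Nat.card (Quotient (MulAction.orbitRel (Equiv.Perm (Fin n))
      ((Equiv.Perm (Fin n) ⧸ youngSubgroup ν) × (Equiv.Perm (Fin n) ⧸ youngSubgroup μ)))) =
      Nat.card (Margins ν μ) := by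
  refine card_orbits_eq _ _ id (margin hν hμ) (margin_surjective hν hμ)
    (fun g => ⟨g, 1, one_mem _, 1, one_mem _, by simp⟩) fun s s' => ⟨exists_of_margin_eq hν hμ, ?_⟩
  rintro ⟨y, hy, z, hz, e⟩
  rw [show s' = y * s * z from e, margin_mul hν hμ hy hz]

variable {F : Type u} [Field F] [Fintype F]

theorem isUpper_mem {b : GL (Fin n) F} (hb : IsUpper b) (κ : Fin n → ℕ) :
    b ∈ parabolicGL n F κ := by
  intro i j hij
  refine hb i j (lt_of_not_ge fun hle => ?_)
  have hmono : compLabel κ i ≤ compLabel κ j := by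
    refine card_le_card fun k hk => ?_
    simp only [mem_filter, mem_univ, true_and] at hk ⊢
    exact le_trans hk hle
  omega

theorem pm_mem {σ : Equiv.Perm (Fin n)} {κ : Fin n → ℕ} (h : σ ∈ youngSubgroup κ) :
    (pm σ : GL (Fin n) F) ∈ parabolicGL n F κ := by
  intro i j hij
  rw [coe_pm, pmMat, Matrix.of_apply, if_neg]
  rintro rfl
  rw [h j] at hij
  exact lt_irrefl _ hij

/-- Vectors supported on the columns of label `< b` and mapped into rows of label `< a`. -/
def kerSet (ν μ : Fin n → ℕ) (g : GL (Fin n) F) (a b : ℕ) : Set (Fin n → F) :=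
  {x | (∀ j, b ≤ compLabel μ j → x j = 0) ∧
    ∀ i, a ≤ compLabel ν i → (g : Matrix (Fin n) (Fin n) F).mulVec x i = 0}

theorem kerSet_le {g p p' : GL (Fin n) F} (hp : p ∈ parabolicGL n F ν)
    (hp' : p' ∈ parabolicGL n F μ) (a b : ℕ) :
    Nat.card (kerSet ν μ (p * g * p') a b) ≤ Nat.card (kerSet ν μ g a b) := by
  refine Nat.card_le_card_of_injective
    (fun x => ⟨(p' : Matrix (Fin n) (Fin n) F).mulVec x.1, fun j hj => ?_, fun i hi => ?_⟩) ?_
  · simp only [Matrix.mulVec, dotProduct]
    refine sum_eq_zero fun k _ => ?_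
    rcases lt_or_ge (compLabel μ k) (compLabel μ j) with h | h
    · rw [hp' h, zero_mul]
    · rw [x.2.1 k (hj.trans h), mul_zero]
  · have hpinv : p⁻¹ ∈ parabolicGL n F ν := inv_mem hp
    have e : (g : Matrix (Fin n) (Fin n) F).mulVec ((p' : Matrix (Fin n) (Fin n) F).mulVec x.1) =
        ((p⁻¹ : GL (Fin n) F) : Matrix (Fin n) (Fin n) F).mulVec
          (((p * g * p' : GL (Fin n) F) : Matrix (Fin n) (Fin n) F).mulVec x.1) := by
      rw [Matrix.mulVec_mulVec, Matrix.mulVec_mulVec, ← Units.val_mul, ← Units.val_mul]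
      congr 2
      group
    rw [e]
    simp only [Matrix.mulVec, dotProduct]
    refine sum_eq_zero fun k _ => ?_
    rcases lt_or_ge (compLabel ν k) (compLabel ν i) with h | h
    · rw [hpinv h, zero_mul]
    · exact mul_eq_zero_of_right _ (x.2.2 k (hi.trans h))
  · intro x x' h
    have h1 := congrArg (fun y : kerSet ν μ g a b =>
      ((p'⁻¹ : GL (Fin n) F) : Matrix (Fin n) (Fin n) F).mulVec y.1) h
    simp only [Matrix.mulVec_mulVec, ← Units.val_mul, inv_mul_cancel, Units.val_one,
      Matrix.one_mulVec] at h1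
    exact Subtype.ext h1

theorem kerSet_eq {g p p' : GL (Fin n) F} (hp : p ∈ parabolicGL n F ν)
    (hp' : p' ∈ parabolicGL n F μ) (a b : ℕ) :
    Nat.card (kerSet ν μ (p * g * p') a b) = Nat.card (kerSet ν μ g a b) := by
  refine le_antisymm (kerSet_le hp hp' a b) ?_
  have := kerSet_le (g := p * g * p') (inv_mem hp) (inv_mem hp') a b
  rwa [show p⁻¹ * (p * g * p') * p'⁻¹ = g by group] at this

theorem card_kerSet_pm (σ : Equiv.Perm (Fin n)) (a b : ℕ) :
    Nat.card (kerSet ν μ (pm σ : GL (Fin n) F) a b) =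
      Fintype.card F ^ (univ.filter fun j => compLabel μ j < b ∧ compLabel ν (σ j) < a).card := by
  rw [← Fintype.card_subtype, ← Fintype.card_fun, ← Nat.card_eq_fintype_card]
  refine Nat.card_congr
    { toFun := fun x j => x.1 j.1
      invFun := fun y => ⟨fun j => if h : compLabel μ j < b ∧ compLabel ν (σ j) < a then y ⟨j, h⟩ else 0,
        fun j hj => dif_neg fun h => absurd h.1 hj.not_gt, fun i hi => ?_⟩
      left_inv := fun x => Subtype.ext (funext fun j => ?_)
      right_inv := fun y => funext fun j => by simp [j.2] }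
  · rw [pm_mulVec]
    exact dif_neg fun h => absurd h.2 (by rw [Equiv.apply_symm_apply]; exact hi.not_gt)
  · simp only
    split_ifs with h
    · rfl
    · rcases not_and_or.1 h with h | h
      · exact (x.2.1 j (not_lt.1 h)).symm
      · have := x.2.2 (σ j) (not_lt.1 h)
        rw [pm_mulVec, Equiv.symm_apply_apply] at this
        exact this.symm

theorem margin_eq_of_mul {σ σ' : Equiv.Perm (Fin n)} {p p' : GL (Fin n) F}
    (hp : p ∈ parabolicGL n F ν) (hp' : p' ∈ parabolicGL n F μ)
    (h : (pm σ' : GL (Fin n) F) = p * pm σ * p') : margin hν hμ σ = margin hν hμ σ' := by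
  let D : Equiv.Perm (Fin n) → ℕ → ℕ → ℕ := fun s a b =>
    (univ.filter fun j => compLabel μ j < b ∧ compLabel ν (s j) < a).card
  have hD : ∀ a b, D σ a b = D σ' a b := by
    intro a b
    refine Nat.pow_right_injective (Fintype.one_lt_card (α := F)) ?_
    show Fintype.card F ^ D σ a b = Fintype.card F ^ D σ' a b
    rw [← card_kerSet_pm, ← card_kerSet_pm, h, kerSet_eq hp hp']
  have key : ∀ (s : Equiv.Perm (Fin n)) (a b : Fin n),
      (margin hν hμ s).1 a b + D s (a + 1) b + D s a (b + 1) = D s (a + 1) (b + 1) + D s a b := by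
    intro s a b
    have e : (margin hν hμ s).1 a b =
        (univ.filter fun j => compLabel μ j = b ∧ compLabel ν (s j) = a).card := by
      show Nat.card {j : Fin n // (lab hν (s j), lab hμ j) = (a, b)} = _
      rw [Nat.card_eq_fintype_card, Fintype.card_subtype]
      congr 1
      ext j
      simp [lab, Fin.ext_iff, and_comm]
    simp only [e, D, card_filter, ← sum_add_distrib]
    refine sum_congr rfl fun j _ => ?_
    split_ifs <;> omega
  refine Subtype.ext (funext fun a => funext fun b => ?_)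
  have h1 := key σ a b
  have h2 := key σ' a b
  rw [hD, hD, hD, hD] at h1
  omega

include hν hμ in
theorem card_orbits_parabolic (F : Type u) [Field F] [Fintype F] :
    Nat.card (Quotient (MulAction.orbitRel (GL (Fin n) F)
      ((GL (Fin n) F ⧸ parabolicGL n F ν) × (GL (Fin n) F ⧸ parabolicGL n F μ)))) =
      Nat.card (Margins ν μ) := by
  refine card_orbits_eq _ _ pm (margin hν hμ) (margin_surjective hν hμ) (fun g => ?_) fun s s' => ⟨?_, ?_⟩
  · obtain ⟨b, b', σ, hb, hb', e⟩ := exists_bruhat g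
    exact ⟨σ, b⁻¹, inv_mem (isUpper_mem hb ν), b'⁻¹, inv_mem (isUpper_mem hb' μ), by rw [← e]; group⟩
  · intro h
    obtain ⟨y, hy, z, hz, e⟩ := exists_of_margin_eq hν hμ h
    exact ⟨pm y, pm_mem hy, pm z, pm_mem hz, by rw [e, map_mul, map_mul]⟩
  · rintro ⟨p, hp, p', hp', e⟩
    exact margin_eq_of_mul hν hμ hp hp' e

theorem conj_fixedPointCharacter {G : Type*} [Group G] (H : Subgroup G) (g : G) :
    conj (fixedPointCharacter H g) = fixedPointCharacter H g := by
  simp [fixedPointCharacter]

include hν hμ in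
/-- Inner products of flag characters count margin matrices. -/
theorem classInner_flag (F : Type u) [Field F] [Fintype F] :
    classInner (fixedPointCharacter (parabolicGL n F ν)) (fixedPointCharacter (parabolicGL n F μ)) =
      (Nat.card (Margins ν μ) : ℂ) := by
  rw [classInner]
  simp only [conj_fixedPointCharacter]
  rw [sum_fixedPointCharacter_mul, card_orbits_parabolic hν hμ F]
  have : (Nat.card (GL (Fin n) F) : ℂ) ≠ 0 := Nat.cast_ne_zero.2 Nat.card_pos.ne'
  field_simp

include hν hμ in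
/-- The same count for `Sym(n)`. -/
theorem sum_young :
    (Nat.card (Equiv.Perm (Fin n)) : ℂ)⁻¹ * ∑ σ : Equiv.Perm (Fin n),
        fixedPointCharacter (youngSubgroup ν) σ * fixedPointCharacter (youngSubgroup μ) σ =
      (Nat.card (Margins ν μ) : ℂ) := by
  rw [sum_fixedPointCharacter_mul, card_orbits_young hν hμ]
  have : (Nat.card (Equiv.Perm (Fin n)) : ℂ) ≠ 0 := Nat.cast_ne_zero.2 Nat.card_pos.ne'
  field_simp

end Labels

end CfsgLib.Unipotent
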