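import Cfsg.Agent.Unipotent.Cosets
import Cfsg.Agent.Chars.PermChar.Basic
import Cfsg.Agent.Chars.Exceptional.Inner

/-!
Orthonormality of the alternating sums of flag characters of `GL_n(q)`.
-/

set_option autoImplicit false

open scoped Classical MatrixGroups ComplexConjugate

namespace CfsgLib.Unipotent

open Finset Cfsg CfsgLib.Chars.Exceptional

universe u

variable {F : Type u} [Field F] [Fintype F] {n : ℕ}

theorem sum_shift {ν : Fin n → ℕ} (hsum : ∑ i, ν i = n) {κ : Equiv.Perm (Fin n)}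
    (hκ : ∀ i : Fin n, (κ i).val ≤ ν i + i.val) :
    ∑ i : Fin n, (ν i + i.val - (κ i).val) = n := by
  have h2 : ∑ i : Fin n, (ν i + i.val - (κ i).val) + ∑ i : Fin n, (κ i).val =
      ∑ i : Fin n, ν i + ∑ i : Fin n, i.val := by
    rw [← sum_add_distrib, ← sum_add_distrib]
    exact sum_congr rfl fun i _ => Nat.sub_add_cancel (hκ i)
  rw [Equiv.sum_comp κ (fun i : Fin n => i.val), hsum] at h2
  omega

theorem strictMono_shift {ν : Fin n → ℕ} (hmono : Monotone ν) :
    StrictMono fun i : Fin n => ν i + i.val :=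
  hmono.add_strictMono fun _ _ h => h

theorem unipotent_eq_sum (ν : Fin n → ℕ) :
    unipotentCharacterGL n F ν = ∑ κ : Equiv.Perm (Fin n),
      (if ∀ i : Fin n, (κ i).val ≤ ν i + i.val then (Equiv.Perm.sign κ : ℤ) else 0) •
        fixedPointCharacter (parabolicGL n F fun i => ν i + i.val - (κ i).val) := by
  funext g
  rw [Finset.sum_apply, unipotentCharacterGL]
  refine sum_congr rfl fun κ _ => ?_
  rw [Pi.smul_apply, zsmul_eq_mul]
  split_ifs <;> simp

theorem classInner_unipotent (ν ν' : Fin n → ℕ) (hmono : Monotone ν) (hsum : ∑ i, ν i = n)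
    (hmono' : Monotone ν') (hsum' : ∑ i, ν' i = n) :
    classInner (unipotentCharacterGL n F ν) (unipotentCharacterGL n F ν') =
      if ν = ν' then 1 else 0 := by
  have hid := sum_sum_margins _ _ (strictMono_shift hmono) (strictMono_shift hmono')
  have hcast := congrArg (fun z : ℤ => (z : ℂ)) hid
  rw [unipotent_eq_sum, unipotent_eq_sum, inner_sum_left]
  simp only [inner_sum_right, inner_zsmul_left, inner_zsmul_right]
  have heq : ((fun i : Fin n => ν i + i.val) = fun i : Fin n => ν' i + i.val) ↔ ν = ν' :=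
    ⟨fun h => funext fun i => Nat.add_right_cancel (congrFun h i), fun h => h ▸ rfl⟩
  simp only [heq] at hcast
  rw [show (if ν = ν' then (1 : ℂ) else 0) = (((if ν = ν' then 1 else 0 : ℤ)) : ℂ) by
    split_ifs <;> simp, ← hcast]
  push_cast
  refine sum_congr rfl fun κ _ => sum_congr rfl fun τ _ => ?_
  by_cases h1 : ∀ i : Fin n, (κ i).val ≤ ν i + i.val
  · by_cases h2 : ∀ i : Fin n, (τ i).val ≤ ν' i + i.val
    · simp only [if_pos h1, if_pos h2, if_pos (And.intro h1 h2)]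
      rw [classInner_flag (sum_shift hsum h1) (sum_shift hsum' h2) F]
      ring
    · simp [h1, h2]
  · simp [h1]

theorem isGeneralizedCharacter_unipotent (ν : Fin n → ℕ) :
    IsGeneralizedCharacter (GL (Fin n) F) (unipotentCharacterGL n F ν) := by
  rw [unipotent_eq_sum]
  refine gen_sum _ _ fun κ _ => gen_zsmul _ (gen_of_char ?_)
  haveI : Fintype (GL (Fin n) F ⧸ parabolicGL n F fun i => ν i + i.val - (κ i).val) := Fintype.ofFinite _
  exact CfsgLib.Chars.PermChar.isCharacter_fixChar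

theorem isIrrCharacter_unipotent (ν : Fin n → ℕ) (hmono : Monotone ν) (hsum : ∑ i, ν i = n)
    (hpos : ∃ r : ℝ, 0 < r ∧ unipotentCharacterGL n F ν 1 = (r : ℂ)) :
    IsIrrCharacter (GL (Fin n) F) (unipotentCharacterGL n F ν) := by
  obtain ⟨ε, hε, hirr⟩ := gen_norm_one (isGeneralizedCharacter_unipotent (F := F) ν)
    (by rw [classInner_unipotent ν ν hmono hsum hmono hsum, if_pos rfl])
  rcases hε with rfl | rfl
  · simpa using hirr
  · obtain ⟨d, hd, e⟩ := irr_degree hirr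
    obtain ⟨r, hr, e'⟩ := hpos
    rw [Pi.smul_apply, e', smul_eq_mul] at e
    have h3 := congrArg Complex.re e
    simp at h3
    have : (0 : ℝ) < d := by exact_mod_cast hd
    linarith

end CfsgLib.Unipotent

namespace CfsgLib.Unipotent

open Finset

/-- Positivity from the degree formula. -/
theorem pos_of_degree_eq {n q e : ℕ} (hq : 0 < q) (Q : ℕ → ℕ) (hQ : StrictMono Q)
    (l : Fin n → ℕ) (hl : StrictMono l) (x : ℂ)
    (h : x * (q : ℂ) ^ e * ∏ i : Fin n, ∏ j ∈ range (l i), (Q (j + 1) : ℂ) =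
      (∏ j ∈ range n, (Q (j + 1) : ℂ)) *
        ∏ i : Fin n, ∏ j ∈ univ.filter (fun j : Fin n => i < j), ((Q (l j) : ℂ) - (Q (l i) : ℂ))) :
    ∃ r : ℝ, 0 < r ∧ x = (r : ℂ) := by
  have hQpos : ∀ j, 0 < Q (j + 1) := fun j =>
    lt_of_le_of_lt (Nat.zero_le _) (hQ (Nat.lt_succ_self j))
  obtain ⟨A, hA, hAc⟩ : ∃ A : ℕ, 0 < A ∧
      (A : ℂ) = (q : ℂ) ^ e * ∏ i : Fin n, ∏ j ∈ range (l i), (Q (j + 1) : ℂ) :=
    ⟨q ^ e * ∏ i : Fin n, ∏ j ∈ range (l i), Q (j + 1),
      Nat.mul_pos (Nat.pow_pos hq) (prod_pos fun i _ => prod_pos fun j _ => hQpos j), by push_cast; rfl⟩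
  obtain ⟨B, hB, hBc⟩ : ∃ B : ℕ, 0 < B ∧
      (B : ℂ) = (∏ j ∈ range n, (Q (j + 1) : ℂ)) *
        ∏ i : Fin n, ∏ j ∈ univ.filter (fun j : Fin n => i < j), ((Q (l j) : ℂ) - (Q (l i) : ℂ)) := by
    refine ⟨(∏ j ∈ range n, Q (j + 1)) *
      ∏ i : Fin n, ∏ j ∈ univ.filter (fun j : Fin n => i < j), (Q (l j) - Q (l i)),
      Nat.mul_pos (prod_pos fun j _ => hQpos j) (prod_pos fun i _ => prod_pos fun j hj =>
        Nat.sub_pos_of_lt (hQ (hl (mem_filter.1 hj).2))), ?_⟩
    simp only [Nat.cast_mul, Nat.cast_prod]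
    congr 1
    exact prod_congr rfl fun i _ => prod_congr rfl fun j hj =>
      Nat.cast_sub (hQ (hl (mem_filter.1 hj).2)).le
  rw [mul_assoc, ← hAc, ← hBc] at h
  refine ⟨(B : ℝ) / A, by positivity, ?_⟩
  push_cast
  rw [eq_div_iff (Nat.cast_ne_zero.2 hA.ne')]
  exact h

theorem strictMono_geomSum {q : ℕ} (hq : 0 < q) :
    StrictMono fun r : ℕ => ∑ l ∈ range r, q ^ l :=
  strictMono_nat_of_lt_succ fun r => by
    simp only [sum_range_succ]
    have := Nat.pow_pos (n := r) hq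
    omega

end CfsgLib.Unipotent
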